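import Groth.Agent.Lib.QCCoprod25.Basic
import Groth.Agent.Lib.SheafCoh.ModColim
import Groth.Agent.Lib.ModFlat.Basic

/-!
# Sections of modules over a quasi-compact object commute with direct sums
-/

set_option autoImplicit false
set_option linter.unusedSectionVars false
set_option linter.style.haveILetI false

universe u

open CategoryTheory CategoryTheory.Limits Opposite

namespace GrothLib.QCCoprod25

variable {C : Type u} [SmallCategory C] {J : GrothendieckTopology C} (O : Sheaf J CommRingCat.{u})

/-- The sections of a module over an object. -/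
noncomputable abbrev secMod (W : C) : ModSite.Mod O ⥤ AddCommGrpCat.{u} :=
  SheafOfModules.toSheaf (ModSite.ringSh O) ⋙ (sheafSections J AddCommGrpCat.{u}).obj (op W)

theorem preservesColimitsOfShape_secMod {W : C} (hW : CohCx.IsQcObject (hSh J W)) (ι : Type u) :
    PreservesColimitsOfShape (Discrete ι) (secMod O W) :=
  haveI := SheafCoh.preservesColimitsOfSize_toSheaf.{u} (ModSite.ringSh O)
  haveI := preservesColimitsOfShape_sections hW ι
  inferInstance

theorem freeOnEquiv_add (U : C) {G : ModSite.Mod O} (a b : ModSite.freeOn O U ⟶ G) :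
    ModFlat.freeOnEquiv O U G (a + b) =
      ModFlat.freeOnEquiv O U G a + ModFlat.freeOnEquiv O U G b := by
  let z := ModFlat.freeOnEquiv O U (G ⊞ G) (biprod.lift a b)
  let ev : ∀ {M N : ModSite.Mod O} (f : M ⟶ N), M.val.obj (op U) → N.val.obj (op U) :=
    fun f x => f.val.app (op U) x
  have hev : ∀ {M N P : ModSite.Mod O} (f : M ⟶ N) (g : N ⟶ P) (x : M.val.obj (op U)),
      ev (f ≫ g) x = ev g (ev f x) := fun _ _ _ => rfl
  have h : a + b = biprod.lift a b ≫ biprod.desc (𝟙 G) (𝟙 G) := by simp
  have hd : (biprod.desc (𝟙 G) (𝟙 G) : G ⊞ G ⟶ G) = biprod.fst + biprod.snd :=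
    biprod.hom_ext' _ _ (by simp) (by simp)
  rw [h, ModFlat.freeOnEquiv_comp, hd]
  have h1 := ModFlat.freeOnEquiv_comp U (biprod.lift a b) (biprod.fst : G ⊞ G ⟶ G)
  have h2 := ModFlat.freeOnEquiv_comp U (biprod.lift a b) (biprod.snd : G ⊞ G ⟶ G)
  rw [biprod.lift_fst] at h1
  rw [biprod.lift_snd] at h2
  rw [h1, h2]
  rfl

/-- Maps out of the free module on an object are its sections, additively. -/
noncomputable def freeOnSecIso (U : C) :
    preadditiveCoyoneda.obj (op (ModSite.freeOn O U)) ≅ secMod O U :=
  NatIso.ofComponents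
    (fun G => AddEquiv.toAddCommGrpIso
      (X := (preadditiveCoyoneda.obj (op (ModSite.freeOn O U))).obj G) (Y := (secMod O U).obj G)
      { ModFlat.freeOnEquiv O U G with map_add' := freeOnEquiv_add O U })
    (fun {G G'} f => ConcreteCategory.hom_ext _ _ fun a => ModFlat.freeOnEquiv_comp U a f)

theorem preservesColimitsOfShape_coyoneda {U : C} (hU : CohCx.IsQcObject (hSh J U)) (ι : Type u) :
    PreservesColimitsOfShape (Discrete ι) (preadditiveCoyoneda.obj (op (ModSite.freeOn O U))) :=
  haveI := preservesColimitsOfShape_secMod O hU ι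
  preservesColimitsOfShape_of_natIso (freeOnSecIso O U).symm

end GrothLib.QCCoprod25
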