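import Groth.Prelude.Def_CohCx
import Groth.Agent.Lib.CoprodH20.Basic
import Groth.Agent.Lib.SheafCoh.Instances
import Mathlib.CategoryTheory.Sites.Limits
import Mathlib.CategoryTheory.Sites.LocallyBijective
import Mathlib.CategoryTheory.Sites.EpiMono
import Mathlib.Algebra.Category.Grp.FilteredColimits

/-!
# Sections over a quasi-compact object commute with direct sums
-/

set_option autoImplicit false
set_option linter.unusedSectionVars false
set_option linter.style.haveILetI false

universe u

open CategoryTheory CategoryTheory.Limits Opposite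

namespace GrothLib.QCCoprod25

variable {C : Type u} [SmallCategory C] {J : GrothendieckTopology C}

/-- The sheaf associated to a representable. -/
noncomputable abbrev hSh (J : GrothendieckTopology C) (V : C) : Sheaf J (Type u) :=
  (presheafToSheaf J (Type u)).obj (yoneda.obj V)

/-- The map from the representable to its sheaf. -/
noncomputable abbrev η (J : GrothendieckTopology C) (V : C) {U : C} (a : U ⟶ V) :
    (hSh J V).obj.obj (op U) :=
  (toSheafify J (yoneda.obj V)).app (op U) a

theorem η_res (V : C) {U U' : C} (a : U ⟶ V) (g : U' ⟶ U) :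
    (hSh J V).obj.map g.op (η J V a) = η J V (g ≫ a) :=
  (NatTrans.naturality_apply (toSheafify J (yoneda.obj V)) g.op a).symm

theorem η_map {V W : C} (f : V ⟶ W) {U : C} (a : U ⟶ V) :
    ((presheafToSheaf J (Type u)).map (yoneda.map f)).hom.app (op U) (η J V a) = η J W (a ≫ f) :=
  (ConcreteCategory.congr_hom (NatTrans.congr_app (toSheafify_naturality J (yoneda.map f)) (op U)) a).symm

/-- Out of a covering sieve of a quasi-compact object finitely many arrows suffice to test vanishing. -/
theorem exists_finset_separating {W : C} (hW : CohCx.IsQcObject (hSh J W)) (S : Sieve W) (hS : S ∈ J W) :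
    ∃ t : Finset (Σ V : C, { f : V ⟶ W // S f }), ∀ (G : Sheaf J AddCommGrpCat.{u}) (z : G.obj.obj (op W)),
      (∀ a ∈ t, G.obj.map a.2.1.op z = 0) → z = 0 := by
  let f : ∀ a : (Σ V : C, { f : V ⟶ W // S f }), hSh J a.1 ⟶ hSh J W :=
    fun (a : Σ V : C, { g : V ⟶ W // S g }) => (presheafToSheaf J (Type u)).map (yoneda.map a.2.1)
  obtain ⟨t, ht⟩ := hW _ (fun (a : Σ V : C, { g : V ⟶ W // S g }) => hSh J a.1) f (by
    intro U s
    let R := Presheaf.imageSieve (toSheafify J (yoneda.obj W)) s
    have hR : R ∈ J U := Presheaf.imageSieve_mem J (toSheafify J (yoneda.obj W)) (U := op U) s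
    refine ⟨Sieve.bind R.arrows
      (fun V g hg => S.pullback (show V ⟶ W from Exists.choose hg)), ?_, ?_⟩
    · exact J.bind_covering hR fun V g hg => J.pullback_stable _ hS
    · intro V g hg
      obtain ⟨V', h, k, hk, hS', rfl⟩ := hg
      refine ⟨⟨V, h ≫ (show V' ⟶ W from Exists.choose hk), hS'⟩, η J V (𝟙 V), ?_⟩
      have hsp : η J W (show V' ⟶ W from Exists.choose hk) = (hSh J W).obj.map k.op s := Exists.choose_spec hk
      refine (η_map _ (𝟙 V)).trans ?_
      rw [Category.id_comp, ← η_res, hsp, op_comp, Functor.map_comp_apply])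
  refine ⟨t, fun G z hz => ?_⟩
  obtain ⟨R, hR, hR'⟩ := ht W (η J W (𝟙 W))
  have hG : Presieve.IsSheaf J (G.obj ⋙ forget AddCommGrpCat.{u}) :=
    (isSheaf_iff_isSheaf_of_type _ _).1 ((Presheaf.isSheaf_iff_isSheaf_forget J G.obj (forget _)).1 G.property)
  refine (hG R hR).isSeparatedFor.ext fun V g hg => ?_
  change G.obj.map g.op z = G.obj.map g.op 0
  rw [map_zero]
  obtain ⟨⟨a, ha⟩, y, hy⟩ := hR' V g hg
  refine (hG (Presheaf.imageSieve (toSheafify J (yoneda.obj a.1)) y)
      (Presheaf.imageSieve_mem J (toSheafify J (yoneda.obj a.1)) (U := op V) y)).isSeparatedFor.ext fun V' h hh => ?_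
  change G.obj.map h.op (G.obj.map g.op z) = G.obj.map h.op 0
  rw [map_zero]
  obtain ⟨b, hb⟩ := hh
  let b' : V' ⟶ a.1 := b
  have e : η J W (b' ≫ a.2.1) = η J W (h ≫ g) := by
    rw [← η_map a.2.1 b', show η J a.1 b' = _ from hb, NatTrans.naturality_apply,
      show (f a).hom.app (op V) y = _ from hy, η_res, η_res, Category.comp_id]
  let x₁ : ToType ((yoneda.obj W).obj (op V')) := b' ≫ a.2.1
  let x₂ : ToType ((yoneda.obj W).obj (op V')) := h ≫ g
  refine (hG (Presheaf.equalizerSieve x₁ x₂)
      (Presheaf.equalizerSieve_mem J (toSheafify J (yoneda.obj W)) x₁ x₂ e)).isSeparatedFor.ext fun V'' k hk => ?_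
  change G.obj.map k.op (G.obj.map h.op (G.obj.map g.op z)) = G.obj.map k.op 0
  rw [map_zero]
  have hk' : k ≫ b' ≫ a.2.1 = k ≫ h ≫ g := hk
  rw [← Functor.map_comp_apply, ← Functor.map_comp_apply, ← op_comp, ← op_comp, Category.assoc, ← hk',
    op_comp, op_comp, Category.assoc, Functor.map_comp_apply, hz a ha, map_zero]

section Coprod

variable {ι : Type u} (F : ι → Sheaf J AddCommGrpCat.{u})

/-- Sections are generated by the injections of a coproduct of presheaves. -/
theorem mem_closure_presheaf (V : C) (p : (∐ fun i => (F i).obj).obj (op V)) :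
    p ∈ AddSubgroup.closure (⋃ i, Set.range ((Sigma.ι (fun i => (F i).obj) i).app (op V))) := by
  let P := ∐ fun i => (F i).obj
  let N : AddSubgroup (P.obj (op V)) :=
    AddSubgroup.closure (⋃ i, Set.range ((Sigma.ι (fun i => (F i).obj) i).app (op V)))
  let q : P.obj (op V) ⟶ AddCommGrpCat.of (P.obj (op V) ⧸ N) := AddCommGrpCat.ofHom (QuotientAddGroup.mk' N)
  have hq : q = 0 := by
    refine (isColimitOfPreserves ((evaluation Cᵒᵖ AddCommGrpCat.{u}).obj (op V))
      (coproductIsCoproduct fun i => (F i).obj)).hom_ext fun ⟨i⟩ => ?_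
    refine ConcreteCategory.hom_ext _ _ fun y => ?_
    exact (QuotientAddGroup.eq_zero_iff _).2 (AddSubgroup.subset_closure (Set.mem_iUnion.2 ⟨i, y, rfl⟩))
  exact (QuotientAddGroup.eq_zero_iff p).1 (ConcreteCategory.congr_hom hq p)

/-- The sum of the idempotents of finitely many components. -/
noncomputable def part (t : Finset ι) : (∐ F) ⟶ ∐ F := ∑ i ∈ t, CoprodH20.comp F i

theorem part_ι_self [DecidableEq ι] (t : Finset ι) (j : ι) :
    Sigma.ι F j ≫ part F t = if j ∈ t then Sigma.ι F j else 0 := by
  rw [part, Preadditive.comp_sum]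
  rw [← Finset.sum_ite_eq' t j (fun _ => Sigma.ι F j)]
  refine Finset.sum_congr rfl fun i _ => ?_
  rw [CoprodH20.comp]
  by_cases h : i = j
  · subst h
    rw [CoprodH20.ι_proj_self_assoc, if_pos rfl]
  · rw [CoprodH20.ι_proj_ne_assoc F (Ne.symm h), zero_comp, if_neg h]

theorem part_comp_part {s t : Finset ι} (h : s ⊆ t) : part F s ≫ part F t = part F s := by
  classical
  refine Sigma.hom_ext _ _ fun j => ?_
  rw [← Category.assoc, part_ι_self, apply_ite (fun x => x ≫ part F t), part_ι_self, zero_comp]
  by_cases hj : j ∈ s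
  · simp [hj, h hj]
  · simp [hj]

theorem exists_part (V : C) (y : (∐ F).obj.obj (op V))
    (hy : y ∈ AddSubgroup.closure (⋃ i, Set.range ((Sigma.ι F i).hom.app (op V)))) :
    ∃ t : Finset ι, (part F t).hom.app (op V) y = y := by
  classical
  have mono : ∀ {s t : Finset ι} {y : (∐ F).obj.obj (op V)}, s ⊆ t →
      (part F s).hom.app (op V) y = y → (part F t).hom.app (op V) y = y := fun {s t y} h hy => by
    conv_rhs => rw [← hy]
    rw [← hy]
    refine (ConcreteCategory.congr_hom (NatTrans.congr_app
      (congrArg (fun r => r.hom) (part_comp_part F h)) (op V)) y).trans ?_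
    rw [hy, hy]
  induction hy using AddSubgroup.closure_induction with
  | mem x hx =>
    obtain ⟨i, z, rfl⟩ := Set.mem_iUnion.1 hx
    refine ⟨{i}, ?_⟩
    refine ConcreteCategory.congr_hom (NatTrans.congr_app (congrArg (fun r => r.hom)
      ((part_ι_self F {i} i).trans (if_pos (Finset.mem_singleton_self i)))) (op V)) z
  | zero => exact ⟨∅, map_zero _⟩
  | add x x' _ _ hx hx' =>
    obtain ⟨s, hs⟩ := hx
    obtain ⟨s', hs'⟩ := hx'
    exact ⟨s ∪ s', by rw [map_add, mono Finset.subset_union_left hs, mono Finset.subset_union_right hs']⟩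
  | neg x _ hx =>
    obtain ⟨s, hs⟩ := hx
    exact ⟨s, by rw [map_neg, hs]⟩

/-- Locally, a section of a direct sum has finitely many components. -/
theorem exists_part_covering (W : C) (x : (∐ F).obj.obj (op W)) :
    ∃ S ∈ J W, ∀ ⦃V : C⦄ (g : V ⟶ W), S g →
      ∃ t : Finset ι, (part F t).hom.app (op V) ((∐ F).obj.map g.op x) = (∐ F).obj.map g.op x := by
  let φ : Discrete.functor F ⋙ sheafToPresheaf J AddCommGrpCat.{u} ≅ Discrete.functor fun i => (F i).obj :=
    Discrete.natIso fun _ => Iso.refl _
  let c : Cocone (Discrete.functor F ⋙ sheafToPresheaf J AddCommGrpCat.{u}) :=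
    (Cocone.precompose φ.hom).obj
      (colimit.cocone (Discrete.functor fun i => (F i).obj))
  have hc : IsColimit c := (IsColimit.precomposeHomEquiv φ _).symm (colimit.isColimit _)
  let d := Sheaf.sheafifyCocone c
  have hd : IsColimit d := Sheaf.isColimitSheafifyCocone c hc
  let e : (presheafToSheaf J AddCommGrpCat.{u}).obj c.pt ≅ ∐ F := hd.coconePointUniqueUpToIso (coproductIsCoproduct F)
  let θ : c.pt ⟶ (∐ F).obj := toSheafify J c.pt ≫ e.hom.hom
  have hθ : ∀ i, Sigma.ι (fun i => (F i).obj) i ≫ θ = (Sigma.ι F i).hom := fun i => by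
    have h := congrArg (fun r => r.hom) (hd.comp_coconePointUniqueUpToIso_hom (coproductIsCoproduct F) ⟨i⟩)
    change (d.ι.app ⟨i⟩).hom ≫ e.hom.hom = _ at h
    rw [Sheaf.sheafifyCocone_ι_app_val c ⟨i⟩] at h
    refine Eq.trans ?_ h
    refine Eq.trans ?_ (Category.assoc _ _ _).symm
    exact congrArg (fun r => r ≫ θ) (Category.id_comp (Sigma.ι (fun i => (F i).obj) i)).symm
  haveI : Presheaf.IsLocallySurjective J θ := by
    haveI : IsIso e.hom.hom := ((sheafToPresheaf J AddCommGrpCat.{u}).mapIso e).isIso_hom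
    haveI : Presheaf.IsLocallySurjective J e.hom.hom := Presheaf.isLocallySurjective_of_iso J _
    exact Presheaf.isLocallySurjective_comp J (toSheafify J c.pt) e.hom.hom
  refine ⟨Presheaf.imageSieve θ x, Presheaf.imageSieve_mem J _ x, fun V g hg => ?_⟩
  obtain ⟨p, hp⟩ := hg
  refine exists_part F V _ ?_
  rw [← hp]
  clear hp
  have hp' := mem_closure_presheaf F V p
  induction hp' using AddSubgroup.closure_induction with
  | mem z hz =>
    obtain ⟨i, z', rfl⟩ := Set.mem_iUnion.1 hz
    refine AddSubgroup.subset_closure (Set.mem_iUnion.2 ⟨i, z', ?_⟩)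
    exact (ConcreteCategory.congr_hom (NatTrans.congr_app (hθ i) (op V)) z').symm
  | zero => rw [map_zero]; exact zero_mem _
  | add a b _ _ ha hb => rw [map_add]; exact add_mem ha hb
  | neg a _ ha => rw [map_neg]; exact neg_mem ha

/-- Sections over a quasi-compact object commute with direct sums. -/
theorem preservesColimit_sections {W : C} (hW : CohCx.IsQcObject (hSh J W)) :
    PreservesColimit (Discrete.functor F) ((sheafSections J AddCommGrpCat.{u}).obj (op W)) := by
  classical
  haveI : ((sheafSections J AddCommGrpCat.{u}).obj (op W)).Additive := ⟨rfl⟩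
  refine CoprodH20.preservesColimit_of_fin F _ fun x => ?_
  obtain ⟨S, hS, hx⟩ := exists_part_covering F W x
  obtain ⟨t, ht⟩ := exists_finset_separating hW S hS
  choose τ hτ using hx
  let T : Finset ι := t.biUnion fun a => τ a.2.1 a.2.2
  refine ⟨T, ?_⟩
  have key : x = (part F T).hom.app (op W) x := by
    refine sub_eq_zero.1 (ht (∐ F) _ fun a ha => ?_)
    rw [map_sub, ← NatTrans.naturality_apply, sub_eq_zero]
    symm
    have h := hτ a.2.1 a.2.2
    conv_rhs => rw [← h]
    conv_lhs => rw [← h]
    exact ConcreteCategory.congr_hom (NatTrans.congr_app (congrArg (fun r => r.hom)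
      (part_comp_part F (Finset.subset_biUnion_of_mem (fun a => τ a.2.1 a.2.2) ha))) _) _
  refine key.trans ?_
  change ((sheafSections J AddCommGrpCat.{u}).obj (op W)).map (part F T) x = _
  rw [part, Functor.map_sum]
  exact map_sum ((AddMonoidHom.eval x).comp
    (AddCommGrpCat.homAddEquiv (M := ((sheafSections J AddCommGrpCat.{u}).obj (op W)).obj (∐ F))
      (N := ((sheafSections J AddCommGrpCat.{u}).obj (op W)).obj (∐ F))).toAddMonoidHom) _ T

/-- Sections over a quasi-compact object commute with direct sums. -/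
theorem preservesColimitsOfShape_sections {W : C} (hW : CohCx.IsQcObject (hSh J W)) (ι : Type u) :
    PreservesColimitsOfShape (Discrete ι) ((sheafSections J AddCommGrpCat.{u}).obj (op W)) :=
  ⟨fun {K} => @preservesColimit_of_iso_diagram _ _ _ _ _ _ _ _ _ (Discrete.natIsoFunctor (F := K)).symm
    (preservesColimit_sections (fun i => K.obj ⟨i⟩) hW)⟩

end Coprod

end GrothLib.QCCoprod25
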